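import Cfsg.Prelude.Def_LocalStructure
import Cfsg.Agent.Lib.CoprimeCommutator
import Cfsg.Agent.Lib.Cores
set_option linter.all false

/-!
# Nilpotent action on a self-centralizing `p`-subgroup
-/

set_option autoImplicit false

namespace Cfsg.Agent.H222.NilAct

open scoped commutatorElement

/-- A finite group in which every element of order prime to `p` is trivial is a `p`-group. -/
theorem isPGroup_of_forall_coprime {G : Type*} [Group G] [Finite G] {p : ℕ} [hp : Fact p.Prime]
    (L : Subgroup G) (h : ∀ x ∈ L, (orderOf x).Coprime p → x = 1) : IsPGroup p ↥L := by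
  intro g
  obtain ⟨k, m, hm, hk⟩ := Nat.exists_eq_pow_mul_and_not_dvd (n := orderOf (g : G))
    (orderOf_pos (g : G)).ne' p hp.out.ne_one
  refine ⟨k, ?_⟩
  have hx : ((g : G) ^ p ^ k) = 1 := by
    apply h _ (L.pow_mem g.2 _)
    rw [orderOf_pow' (g : G) (pow_ne_zero k hp.out.ne_zero), hk, Nat.gcd_eq_right (Dvd.intro _ rfl),
      Nat.mul_div_cancel_left _ (pow_pos hp.out.pos k)]
    exact ((Nat.Prime.coprime_iff_not_dvd hp.out).mpr hm).symm
  exact Subtype.ext (by simpa using hx)

/-- If `A` normalises `R`, `|A|` and `|R|` are coprime and some iterated commutator `[R, L, ..., L]` with `A ≤ L`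
is trivial then `[R, A] = 1`. -/
theorem commutator_eq_bot_of_iterCommutator {G : Type*} [Group G] [Finite G] (A R L : Subgroup G)
    (hAR : A ≤ Subgroup.normalizer (R : Set G)) (hcop : (Nat.card A).Coprime (Nat.card R))
    (hAL : A ≤ L) {n : ℕ} (hn : Cfsg.iterCommutator R L n = ⊥) : ⁅R, A⁆ = ⊥ := by
  have h1 := Lib.CoprimeCommutator.commutator_commutator_eq A R hAR hcop
  have h2 : ∀ m, ⁅R, A⁆ ≤ Cfsg.iterCommutator R L m := by
    intro m
    induction m with
    | zero => exact Lib.CoprimeCommutator.commutator_le_left hAR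
    | succ m ih =>
      rw [← h1]
      exact Subgroup.commutator_mono ih hAL
  exact le_bot_iff.mp (hn ▸ h2 n)

theorem isPGroup_of_nilpotent_action {H : Type*} [Group H] [Finite H] {p : ℕ} [Fact p.Prime]
    (R : Subgroup H) (hR : IsPGroup p ↥R) (hC : Subgroup.centralizer (R : Set H) ≤ R)
    (L : Subgroup H) (hL : L ≤ Subgroup.normalizer (R : Set H))
    (hnil : ∃ n : ℕ, Cfsg.iterCommutator R L n = ⊥) : IsPGroup p ↥L := by
  obtain ⟨n, hn⟩ := hnil
  apply isPGroup_of_forall_coprime
  intro x hx hxp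
  have hcard : (Nat.card (Subgroup.zpowers x)).Coprime (Nat.card R) := by
    rw [Nat.card_zpowers]
    obtain ⟨k, hk⟩ := IsPGroup.iff_card.mp hR
    rw [hk]
    exact Nat.Coprime.pow_right k hxp
  have hxL : Subgroup.zpowers x ≤ L := by simpa using hx
  have h1 := commutator_eq_bot_of_iterCommutator (Subgroup.zpowers x) R L (hxL.trans hL) hcard hxL hn
  rw [Subgroup.commutator_comm, Subgroup.commutator_eq_bot_iff_le_centralizer] at h1
  have h2 : x ∈ R := hC (h1 (Subgroup.mem_zpowers x))
  have h3 : orderOf x = 1 := by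
    obtain ⟨k, hk⟩ := IsPGroup.iff_orderOf.mp hR ⟨x, h2⟩
    rw [Subgroup.orderOf_mk] at hk
    rw [hk] at hxp ⊢
    exact Nat.Coprime.eq_one_of_dvd (hxp) (by
      rcases k with _ | k
      · simp
      · exfalso
        have := Nat.Coprime.eq_one_of_dvd (Nat.Coprime.symm hxp) (Dvd.intro_left _ rfl)
        exact (Fact.out : p.Prime).ne_one this)
  exact orderOf_eq_one_iff.mp h3

theorem le_pCore_of_chain {H : Type*} [Group H] [Finite H] {p : ℕ} [Fact p.Prime]
    (hchar : Subgroup.centralizer (Cfsg.pCore p H : Set H) ≤ Cfsg.pCore p H) (L : Subgroup H)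
    (n : ℕ) (A : Fin (n + 1) → Subgroup H) (h0 : A 0 = ⊥)
    (hn : A (Fin.last n) = Cfsg.pCore p H) (hnorm : ∀ i, (A i).Normal)
    (hcent : ∀ i : Fin n, ⁅A i.succ, L⁆ ≤ A i.castSucc) : L ≤ Cfsg.pCore p H := by
  set N : Subgroup H := Subgroup.normalClosure (L : Set H) with hN
  have hLN : L ≤ N := Subgroup.le_normalClosure
  have hc : ∀ i : Fin n, ⁅A i.succ, N⁆ ≤ A i.castSucc := by
    intro i
    have := hnorm i.castSucc
    have := hnorm i.succ
    have h1 : L ≤ (Subgroup.centralizer ((A i.succ).map (QuotientGroup.mk' (A i.castSucc)) : Set (H ⧸ A i.castSucc))).comap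
        (QuotientGroup.mk' (A i.castSucc)) := by
      rw [← Lib.Cores.commutator_le_iff_le_comap_centralizer, Subgroup.commutator_comm]
      exact hcent i
    rw [Subgroup.commutator_comm, Lib.Cores.commutator_le_iff_le_comap_centralizer]
    have : ((A i.succ).map (QuotientGroup.mk' (A i.castSucc))).Normal :=
      Subgroup.Normal.map (hnorm i.succ) _ (QuotientGroup.mk'_surjective _)
    exact Subgroup.normalClosure_le_normal h1
  have h3 : ∀ m : ℕ, ∀ hm : m ≤ n, Cfsg.iterCommutator (Cfsg.pCore p H) N m ≤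
      A ⟨n - m, by omega⟩ := by
    intro m
    induction m with
    | zero =>
      intro _
      show Cfsg.pCore p H ≤ _
      rw [← hn]; exact le_of_eq (congrArg A (by ext; simp))
    | succ m ih =>
      intro hm
      have h4 := ih (by omega)
      show ⁅Cfsg.iterCommutator (Cfsg.pCore p H) N m, N⁆ ≤ _
      refine (Subgroup.commutator_mono h4 le_rfl).trans ?_
      have h5 := hc ⟨n - (m + 1), by omega⟩
      have h6 : (⟨n - m, by omega⟩ : Fin (n + 1)) = (⟨n - (m + 1), by omega⟩ : Fin n).succ := by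
        ext; simp; omega
      rw [h6]
      exact h5
  have h4 : Cfsg.iterCommutator (Cfsg.pCore p H) N n = ⊥ := by
    have := h3 n le_rfl
    rw [show (⟨n - n, by omega⟩ : Fin (n + 1)) = 0 by ext; simp, h0] at this
    exact le_bot_iff.mp this
  have := Lib.Cores.pCore_normal (G := H) p
  have h5 : IsPGroup p ↥N := isPGroup_of_nilpotent_action (Cfsg.pCore p H) (Lib.Cores.pCore_isPGroup p)
    hchar N (by rw [Subgroup.normalizer_eq_top]; exact le_top) ⟨n, h4⟩
  exact hLN.trans (Lib.Cores.le_pCore Subgroup.normalClosure_normal h5)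

end Cfsg.Agent.H222.NilAct
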